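import Cfsg.Agent.H843.IMC.Co2Q
import Cfsg.Agent.H843.IMC.LeechConv
import Cfsg.Agent.LThreeCo1Twelve.Gam

/-!
# The 82 vectors and the quadrangle for `Co2` (helper843)
-/

set_option autoImplicit false

namespace Cfsg.Agent.H843.IMC.Co2V

open Cfsg Cfsg.Agent.SporadicA Cfsg.Agent.SporadicStructure.Co0Matrix Cfsg.Agent.CoOneType.CoEval
open Cfsg.Agent.SporadicA.Co0Mono Cfsg.Agent.SporadicA.Co1Simple
open Cfsg.Agent.SporadicA.GolayBase (idx pt)
open Cfsg.Agent.LThreeCo1Twelve.Perm Cfsg.Agent.LThreeCo1Twelve.Mono Cfsg.Agent.LThreeCo1Twelve.Strip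
open Cfsg.Agent.SporadicStructure.Co0Base (e8 e8_coe co0_dotInt)
open Cfsg.Agent.SporadicStructure.LeechBase (zmod2_cases)
open Cfsg.Agent.CoOneType.SignFacts
open Cfsg.Agent.KFacts.Co1.OctGen (mem_N_of_smul_e8)
open Cfsg.Agent.H843.IMC.Co2D Cfsg.Agent.H843.IMC.Co2Q
open Cfsg.Agent.H843.IMC.LeechConv
open scoped Pointwise

/-! ### The complete list -/

/-- The weighted norm. -/
def wn : List ℤ → List ℤ → ℤ
  | w :: ws, a :: l => w * (a * a) + wn ws l
  | _, _ => 0

theorem wn_ge (o : Bool) : ∀ {ws l : List ℤ}, l.length = ws.length → (∀ w ∈ ws, 1 ≤ w) →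
    (∀ a ∈ l, a % 2 = if o then 1 else 0) → (if o then ws.sum else 0) ≤ wn ws l
  | [], [], _, _, _ => by cases o <;> simp [wn]
  | w :: ws, a :: l, h1, h2, h3 => by
    have ih := wn_ge o (ws := ws) (l := l) (by simpa using h1) (fun w hw => h2 w (List.mem_cons_of_mem _ hw))
      (fun a ha => h3 a (List.mem_cons_of_mem _ ha))
    have hw := h2 w List.mem_cons_self
    have ha := h3 a List.mem_cons_self
    show _ ≤ w * (a * a) + wn ws l
    cases o
    · simp only [Bool.false_eq_true, if_false] at ih ⊢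
      have : 0 ≤ w * (a * a) := mul_nonneg (by omega) (mul_self_nonneg a)
      omega
    · simp only [if_true] at ih ha ⊢
      rw [List.sum_cons]
      have h4 : 1 ≤ a * a := by
        have h5 : a ≠ 0 := by rintro rfl; simp at ha
        have := mul_self_nonneg a
        have h6 : a * a ≠ 0 := mul_ne_zero h5 h5
        omega
      have : w ≤ w * (a * a) := le_mul_of_one_le_right (by omega) h4
      omega
  | [], _ :: _, h1, _, _ => by simp at h1
  | _ :: _, [], h1, _, _ => by simp at h1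

theorem mem_en (o : Bool) : ∀ {ws l : List ℤ} {b : ℤ}, l.length = ws.length → (∀ w ∈ ws, 1 ≤ w) →
    (∀ a ∈ l, a % 2 = if o then 1 else 0) → wn ws l = b → b ≤ 32 → l ∈ en o ws b
  | [], [], b, _, _, _, h4, _ => by
    have h5 : (0 : ℤ) = b := h4
    subst h5
    exact List.mem_singleton.2 rfl
  | w :: ws, a :: l, b, h1, h2, h3, h4, h5 => by
    have hl : l.length = ws.length := by simpa using h1
    have hw' : ∀ w ∈ ws, 1 ≤ w := fun w hw => h2 w (List.mem_cons_of_mem _ hw)
    have hp' : ∀ a ∈ l, a % 2 = if o then 1 else 0 := fun a ha => h3 a (List.mem_cons_of_mem _ ha)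
    have hw := h2 w List.mem_cons_self
    have ha := h3 a List.mem_cons_self
    have h6 := wn_ge o hl hw' hp'
    have h7 : w * (a * a) + wn ws l = b := h4
    have h8 : 0 ≤ wn ws l := by
      cases o
      · exact h6
      · refine le_trans ?_ h6
        simp only [if_true]
        exact List.sum_nonneg fun w hw => by have := hw' w hw; omega
    have h9 : a * a ≤ w * (a * a) := le_mul_of_one_le_left (mul_self_nonneg a) hw
    have h10 : a * a ≤ 32 := by omega
    have h11 : a ≤ 5 := by nlinarith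
    have h12 : -5 ≤ a := by nlinarith
    have h13 : l ∈ en o ws (b - w * (a * a)) := mem_en o hl hw' hp' (by omega) (by
      have : 0 ≤ w * (a * a) := mul_nonneg (by omega) (mul_self_nonneg a)
      omega)
    unfold en
    rw [List.mem_flatMap]
    refine ⟨a, ?_, ?_⟩
    · cases o
      · simp only [Bool.false_eq_true, if_false] at ha ⊢
        simp only [List.mem_cons, List.not_mem_nil, or_false]
        omega
      · simp only [if_true] at ha ⊢
        simp only [List.mem_cons, List.not_mem_nil, or_false]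
        omega
    · rw [if_pos (by omega)]
      exact List.mem_map.2 ⟨l, h13, rfl⟩
  | [], _ :: _, _, h1, _, _, _, _ => by simp at h1
  | _ :: _, [], _, h1, _, _, _, _ => by simp at h1

theorem cycle_rep : ∀ p : GolayPt, p = pt (rp.getD (cyL.getD (idx p) 0) 0) ∨
    p = tb (pt (rp.getD (cyL.getD (idx p) 0) 0)) ∨ p = tb (tb (pt (rp.getD (cyL.getD (idx p) 0) 0))) := by
  decide +kernel

/-- The twelve coordinates of a fixed vector. -/
def co (u : leechLattice) : List ℤ := rp.map fun i => (u : GolayPt → ℤ) (pt i)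

theorem length_ex (l : List ℤ) : (ex l).length = 24 := by rw [ex, List.length_map]; rfl

theorem cyL_lt : ∀ p : GolayPt, cyL.getD (idx p) 0 < 12 := by decide +kernel

theorem length_cyL : cyL.length = 24 := rfl

theorem length_rp : rp.length = 12 := rfl

theorem getD_map {α β : Type*} (l : List α) (f : α → β) (d : α) (d' : β) {i : ℕ} (hi : i < l.length) :
    (l.map f).getD i d' = f (l.getD i d) := by
  rw [List.getD_eq_getElem _ _ (by rw [List.length_map]; exact hi), List.getElem_map, List.getD_eq_getElem _ _ hi]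

theorem coe_ex {u : leechLattice} (hs : s0 • u = u) : (u : GolayPt → ℤ) = vec (ex (co u)) := by
  funext p
  have h1 : vec (ex (co u)) p = (u : GolayPt → ℤ) (pt (rp.getD (cyL.getD (idx p) 0) 0)) := by
    rw [vec_apply, ex, getD_map cyL _ 0 0 (by rw [length_cyL]; exact GolayBase.idx_lt p), co,
      getD_map rp _ 0 0 (by rw [length_rp]; exact cyL_lt p)]
  rw [h1]
  rcases cycle_rep p with h | h | h
  · exact congrArg _ h
  · conv_lhs => rw [h]
    exact fix_apply hs _
  · conv_lhs => rw [h]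
    rw [fix_apply hs, fix_apply hs]

theorem memL {i : ℕ} (hi : i < 82) : vec (L i) ∈ leechLattice := vec_mem_of_leechB (rng chk_leech hi)

/-- The vectors. -/
noncomputable def vv (i : ℕ) : leechLattice := if hi : i < 82 then ⟨vec (L i), memL hi⟩ else 0

theorem vv_coe {i : ℕ} (hi : i < 82) : ((vv i : leechLattice) : GolayPt → ℤ) = vec (L i) := by
  rw [vv, dif_pos hi]

/-- **The list is complete.** -/
theorem complete {u : leechLattice} (hs : s0 • u = u) (hn : sqNorm (u : GolayPt → ℤ) = 32)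
    (hd : dotInt (u : GolayPt → ℤ) (v1 : GolayPt → ℤ) = 16) : ∃ i < 82, u = vv i := by
  have hu := coe_ex hs
  have hB : leechB (ex (co u)) = true := leechB_of_mem (length_ex _) (by rw [← hu]; exact u.2)
  have hdd : dotL (ex (co u)) (ex (co u)) = 32 := by
    rw [← dotInt_vec _ _ (length_ex _).le, ← hu, ← sqNorm_eq_dot, hn]
  have hdw : dotL (ex (co u)) wl = 16 := by
    rw [← dotInt_vec _ _ (length_ex _).le, ← hu, ← hd, v1_coe]
    rfl
  obtain ⟨m, z, h1, -, -⟩ := (LeechSet.mem_leechLattice_iff' _).1 u.2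
  have hpar : ∀ a ∈ co u, a % 2 = m % 2 := by
    intro a ha
    rw [co, List.mem_map] at ha
    obtain ⟨i, -, rfl⟩ := ha
    rw [h1]
    omega
  have hco : co u = [(u : GolayPt → ℤ) (pt 0), (u : GolayPt → ℤ) (pt 12), (u : GolayPt → ℤ) (pt 3),
      (u : GolayPt → ℤ) (pt 10), (u : GolayPt → ℤ) (pt 20), (u : GolayPt → ℤ) (pt 21), (u : GolayPt → ℤ) (pt 1),
      (u : GolayPt → ℤ) (pt 2), (u : GolayPt → ℤ) (pt 4), (u : GolayPt → ℤ) (pt 5), (u : GolayPt → ℤ) (pt 8),
      (u : GolayPt → ℤ) (pt 13)] := rfl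
  rw [hco] at hpar hdd hdw hB hu
  generalize (u : GolayPt → ℤ) (pt 0) = a0, (u : GolayPt → ℤ) (pt 12) = a1, (u : GolayPt → ℤ) (pt 3) = a2,
    (u : GolayPt → ℤ) (pt 10) = a3, (u : GolayPt → ℤ) (pt 20) = a4, (u : GolayPt → ℤ) (pt 21) = a5,
    (u : GolayPt → ℤ) (pt 1) = a6, (u : GolayPt → ℤ) (pt 2) = a7, (u : GolayPt → ℤ) (pt 4) = a8,
    (u : GolayPt → ℤ) (pt 5) = a9, (u : GolayPt → ℤ) (pt 8) = a10, (u : GolayPt → ℤ) (pt 13) = a11
    at hpar hdd hdw hB hu
  have e1 : a0 * 4 + a1 * 4 = 16 := by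
    rw [← hdw]
    simp [ex, cyL, dotL_cons, dotL_nil_left, wl, Cfsg.Agent.LThreeCo1Twelve.Data.vl]
  have e2 : a0 * a0 + a1 * a1 + wn [1, 1, 1, 1, 3, 3, 3, 3, 3, 3] [a2, a3, a4, a5, a6, a7, a8, a9, a10, a11] = 32 := by
    rw [← hdd]
    simp only [ex, cyL, dotL_cons, dotL_nil_left, wn, List.map_cons, List.map_nil, List.getD_cons_zero,
      List.getD_cons_succ]
    ring
  have e3 : a1 = 4 - a0 := by omega
  subst e3
  have hpos : 0 ≤ wn [1, 1, 1, 1, 3, 3, 3, 3, 3, 3] [a2, a3, a4, a5, a6, a7, a8, a9, a10, a11] := by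
    simp only [wn]
    nlinarith [mul_self_nonneg a2, mul_self_nonneg a3, mul_self_nonneg a4, mul_self_nonneg a5, mul_self_nonneg a6,
      mul_self_nonneg a7, mul_self_nonneg a8, mul_self_nonneg a9, mul_self_nonneg a10, mul_self_nonneg a11]
  have e4 : a0 ≤ 5 := by nlinarith [mul_self_nonneg (4 - a0)]
  have e5 : -5 ≤ a0 := by nlinarith [mul_self_nonneg (4 - a0)]
  have hm : (if (decide (a0 % 2 = 1)) = true then (1 : ℤ) else 0) = m % 2 := by
    have h2 := hpar a0 (by simp)
    rcases Int.emod_two_eq_zero_or_one a0 with h3 | h3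
    · rw [h3] at h2 ⊢
      simp [← h2]
    · rw [h3] at h2 ⊢
      simp [← h2]
  have hmem : [a2, a3, a4, a5, a6, a7, a8, a9, a10, a11] ∈ en (decide (a0 % 2 = 1)) [1, 1, 1, 1, 3, 3, 3, 3, 3, 3]
      (32 - a0 * a0 - (4 - a0) * (4 - a0)) := by
    refine mem_en _ rfl (by decide) (fun a ha => ?_) (by omega) ?_
    · rw [hm]
      exact hpar a (List.mem_cons_of_mem _ (List.mem_cons_of_mem _ ha))
    · nlinarith [mul_self_nonneg (4 - a0), mul_self_nonneg a0]
  have hcand : a0 :: (4 - a0) :: [a2, a3, a4, a5, a6, a7, a8, a9, a10, a11] ∈ cand := by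
    unfold cand
    rw [List.mem_flatMap]
    refine ⟨a0, ?_, List.mem_map.2 ⟨_, hmem, rfl⟩⟩
    simp only [List.mem_cons, List.not_mem_nil, or_false]
    omega
  have h2 := List.all_eq_true.1 chkC _ hcand
  rw [hB] at h2
  simp only [Bool.not_true, Bool.false_or, List.any_eq_true, List.mem_range] at h2
  obtain ⟨i, hi, h3⟩ := h2
  refine ⟨i, hi, ?_⟩
  apply Subtype.ext
  rw [vv_coe hi, hu, eqL_eq h3]

end Cfsg.Agent.H843.IMC.Co2V
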